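import Cfsg.Agent.SB.SporF.Co3.Main
import Cfsg.Agent.H763.Co3.Model
import Cfsg.Agent.SporRec.Co3.Model
import Cfsg.Agent.S2071

/-!
# S5765, the row of `Co₃` (helper61)

The action on the 276 blocks of the model on 552 points; `row_Co3`.
-/

set_option autoImplicit false
set_option maxRecDepth 100000

namespace Cfsg.Agent.SB.SporF

open Cfsg Cfsg.Agent.SB.Spor

/-- the action on the blocks of a central permutation `σ` -/
def blockPM {G : Type*} [Group G] {N n : ℕ} (φ : G →* Equiv.Perm (Fin N)) (σ : Equiv.Perm (Fin N))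
    (hσ : ∀ g, σ * φ g = φ g * σ) (rep blk : ℕ → ℕ) (h1 : ∀ i < n, rep i < N ∧ blk (rep i) = i)
    (h2 : ∀ j : Fin N, blk j < n ∧ (rep (blk j) = j ∨ rep (blk j) = σ j) ∧ blk (σ j) = blk j) : PM G n where
  act g i := if h : rep i < N then blk (φ g ⟨rep i, h⟩) else 0
  lt g i hi := by
    rw [dif_pos (h1 i hi).1]
    exact (h2 _).1
  one i hi := by
    rw [dif_pos (h1 i hi).1, map_one]
    exact (h1 i hi).2
  mul g h i hi := by
    rw [dif_pos (h1 i hi).1, dif_pos (h1 i hi).1, dif_pos (h1 _ (h2 _).1).1, map_mul, Equiv.Perm.mul_apply]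
    generalize φ h ⟨rep i, (h1 i hi).1⟩ = j
    rcases (h2 j).2.1 with e | e
    · rw [show (⟨rep (blk j), (h1 _ (h2 _).1).1⟩ : Fin N) = j from Fin.ext e]
    · rw [show (⟨rep (blk j), (h1 _ (h2 _).1).1⟩ : Fin N) = σ j from Fin.ext e, ← Equiv.Perm.mul_apply (φ g) σ, ← hσ,
        Equiv.Perm.mul_apply, (h2 _).2.2]

namespace Co3

open Cfsg.Agent.H763.Co3.Dat (gens ts)
open Cfsg.Agent.H763.Co3.Model (ψ σ σ_comm σ_apply ψ_e0_inv fin_G3)
open Cfsg.Agent.SporRec.Co3.Ident Cfsg.Agent.SporRec.Co3.Chain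

/-- representatives of the blocks -/
noncomputable def repT : ℕ := nat_lit 0x8961483e0c81604809ff7edfa7e1f77d9f57c5ed7b1e879de4781de775d8759d4749d1741ce735cc72dca721c7711c3709c06fdbe6f5bb6e9b96e1b76d9b562d8a621876017e5f57c5ed7a5e5725b96a5a5675995a55d5555152545505154450d42505404f13b4e9394e1364d5344cd324bd2e4b12849d264952448d22485204751c465184591544d114410f4390d4290941d03409013fcfe3f4fc3ecfa3dcf63d4f43ccf23c4ee3b4ec3ace9394e438ce1378dd370db368d9360d7358d5350d3348d1340cf338cd330cb328c92b0ab2a8a929ca5290a3288a126c9a26094248912408e2348c22c8a2247f1f87d1f07b1e8791e0771c8701bc6e1b46c1a8691a0671986418c621845f1785d1705a1645715855150531445013c4e1344c12c4a1244811c46114350d0330c8310c02e0b42c0ac2a0a42808c220841f0781d0701b068190601705815050130480c02c0a02407018050100300400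

/-- the blocks -/
noncomputable def blkT : ℕ := nat_lit 0x44d0944d10438df3fd02414fb3e4f73cd0f445124110b405124210a3c8f64450d36d10360e53f1073d10043d0e4310d40cfd430d935cea42d0a4190942107418fe378d3414f53e0dd411033bcec39902404d6345003c0e2348ff368fe3f4fa3b4ee384fc390fb350fa3a0f93e0f73c4f63d4f43ccf23acf13c0e039cef3b8ed3a4ec3acea3a4e33a0e7398e5390e3388d033cce334cc328c9320c7314c3304c02fcbe2f0ba2dcb62c8b12c0ab2a8a82889e2749a26097258952489023c8b2288821872384e0370df37889354a732cb5318dd2e4dc36cda364d835c9f284a02bcbd2e0d62a4ac2d0d5244bb234d434c9b348d12649424cad1bc621785d1705b164d0238ae33cb3338cd1b4cc32cca2148420c821fc7d1f05a1e4c4324c831cc6314c41987e308c3308c1300bf19cbe2f4bc2ecba1a4702e4b81a8b7298a5290b62d4b42ccb22c4b02bcae28c872b4ac190632acaa184a92a06529c80298a5290a32886c1d4a12807a27c9c1ac742789d2708c26c9a2649825c961b8732549424c922449023c771d88e2348c22c5f228781c4602248821c68218811ec8521083208812007f1f87d1f07b1e8791e0771d8751d0731c8711c05815c551505214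04f1384c12c4a124471144410c400fc3d0e8390e0360d0330c82a0a46f1b86d1b0511ac461a8691a067198310ec3c1084819464104631345614c620d4611805f0dc5e1745c16c5a1642809c220842007c1e0741c16057158551505314851140300bc2e0b44f0944e1344c12c4a0904912047118450f84410c42104231003f0f83d0ac3c0ec260e8390e0370d82c0d4340cc320c4300bc2e0b42c0ac2a0a41b0641805c160541404c120441003c0e0300b0a0270982509023068220842007c1e0741c028090200706c1a0640d060170581505013048110400f0380d0300b01805010030080a0240801c0101805010030080000400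

theorem ck1 : allN 276 (fun i => cnd (Nat.blt (H123.Cls.lk 10 repT i) 552)
    (Nat.beq (H123.Cls.lk 10 blkT (H123.Cls.lk 10 repT i)) i) false) = true := by decide +kernel

theorem ck2 : allN 552 (fun j => cnd (Nat.blt (H123.Cls.lk 10 blkT j) 276)
    (cnd (Nat.beq (H123.Cls.lk 10 blkT (H123.Cls.lk 10 ts j)) (H123.Cls.lk 10 blkT j))
      (cnd (Nat.beq (H123.Cls.lk 10 repT (H123.Cls.lk 10 blkT j)) j) true
        (Nat.beq (H123.Cls.lk 10 repT (H123.Cls.lk 10 blkT j)) (H123.Cls.lk 10 ts j))) false) false) = true := by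
  decide +kernel

theorem ck3 : allN 8 (fun k => allN 276 fun i => Nat.beq
    (H123.Cls.lk 10 blkT (H123.Cls.lk 10 (H123.Cls.nth gens k) (H123.Cls.lk 10 repT i)))
    (lk (H123.Cls.nth E0 k) i)) = true := by decide +kernel

theorem hk1 : ∀ i < 276, H123.Cls.lk 10 repT i < 552 ∧ H123.Cls.lk 10 blkT (H123.Cls.lk 10 repT i) = i := fun i hi => by
  obtain ⟨a, b⟩ := cnd_and (of_allN ck1 i hi)
  exact ⟨Nat.blt_eq.mp a, Nat.eq_of_beq_eq_true b⟩

theorem hk2 (j : Fin 552) : H123.Cls.lk 10 blkT j < 276 ∧ (H123.Cls.lk 10 repT (H123.Cls.lk 10 blkT j) = j ∨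
    H123.Cls.lk 10 repT (H123.Cls.lk 10 blkT j) = σ j) ∧ H123.Cls.lk 10 blkT (σ j) = H123.Cls.lk 10 blkT j := by
  obtain ⟨a, b⟩ := cnd_and (of_allN ck2 j j.2)
  obtain ⟨b, c⟩ := cnd_and b
  rw [σ_apply]
  refine ⟨Nat.blt_eq.mp a, ?_, Nat.eq_of_beq_eq_true b⟩
  cases h : Nat.beq (H123.Cls.lk 10 repT (H123.Cls.lk 10 blkT j)) j
  · rw [h] at c
    exact Or.inr (Nat.eq_of_beq_eq_true c)
  · exact Or.inl (Nat.eq_of_beq_eq_true h)

/-- the model on 276 points -/
noncomputable def pm : PM G3 276 := blockPM ψ σ σ_comm _ _ hk1 hk2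

theorem hyp : Hyp pm := by
  refine ⟨fun t ht => ?_, isCo3_G3.2.le⟩
  obtain ⟨k, hk, rfl⟩ := List.mem_iff_getElem.1 ht
  have hk8 : k < 8 := hk
  refine ⟨(H970.Ore.Tab.e0 k)⁻¹, fun i hi => ?_⟩
  show (if h : H123.Cls.lk 10 repT i < 552 then _ else _) = _
  rw [dif_pos (hk1 i hi).1, ψ_e0_inv hk8, ← List.getD_eq_getElem _ 0 hk, ← H123.Cls.nth_eq]
  exact Nat.eq_of_beq_eq_true (of_allN (of_allN ck3 k hk8) i hi)

end Co3

theorem not_comm_of_card {G : Type*} [Group G] [Finite G] [IsSimpleGroup G] (h : ¬ (Nat.card G).Prime) :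
    ¬ IsMulCommutative G := fun hc => by
  let _ : CommGroup G := { (inferInstance : Group G) with mul_comm := hc.is_comm.comm }
  exact h IsSimpleGroup.prime_card

theorem card_out_congr {K K' : Type*} [Group K] [Group K'] (e : K ≃* K') : Nat.card (Out K) = Nat.card (Out K') := by
  show (H786.FC.InnG K).index = (H786.FC.InnG K').index
  rw [← congr_innG e]
  exact (Subgroup.index_map_equiv _ (MulAut.congr e)).symm

/-- **The row of `Co₃`.** -/
theorem row_Co3 (K : Type*) [Group K] (h : Spor.IsoCo3 K) : Row K := by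
  obtain ⟨e⟩ := h
  have := H763.Co3.Model.fin_G3
  have := SporRec.Co3.Chain.isCo3_G3.1
  refine Row.of_equiv (e.trans SporRec.Co3.Model.equivCo3.symm) (Co3.row Co3.hyp (not_comm_of_card ?_) ?_)
  · rw [SporRec.Co3.Chain.isCo3_G3.2]
    norm_num
  · exact (card_out_congr SporRec.Co3.Model.equivCo3).trans S2071.result

end Cfsg.Agent.SB.SporF
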