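import Cfsg.Agent.SB.SporF.McL.Main
import Cfsg.Agent.SB.SporF.RowCo3
import Cfsg.Agent.McLType.Gens
import Cfsg.Agent.S2073

/-!
# S5765, the row of `McL` (helper61)

The action on 275 points; `row_McL`.
-/

set_option autoImplicit false
set_option maxRecDepth 100000

namespace Cfsg.Agent.SB.SporF

open Cfsg Cfsg.Agent.SB.Spor

/-- a permutation representation as a model -/
def permPM {G : Type*} [Group G] {n : ℕ} (φ : G →* Equiv.Perm (Fin n)) : PM G n where
  act g i := if h : i < n then φ g ⟨i, h⟩ else 0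
  lt g i hi := by
    rw [dif_pos hi]
    exact Fin.is_lt _
  one i hi := by
    rw [dif_pos hi, map_one]
    rfl
  mul g h i hi := by
    rw [dif_pos hi, dif_pos hi, dif_pos (Fin.is_lt _), map_mul, Equiv.Perm.mul_apply]

namespace McL

open Cfsg.Agent.McLType.X275 Cfsg.Agent.McLType.Gens

theorem ck : allN 7 (fun k => allN 275 fun i => Nat.beq
    (SporadicStructure.PermChain.look 9 (tabs.getD k 0) i) (lk (E0.getD k 0) i)) = true := by decide +kernel

theorem hyp : Hyp (permPM ψ) := by
  refine ⟨fun t ht => ?_, card_G1.le⟩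
  obtain ⟨k, hk, rfl⟩ := List.mem_iff_getElem.1 ht
  have hk7 : k < 7 := hk
  obtain ⟨g, hg⟩ := exists_gen ⟨k, hk7⟩
  refine ⟨g, fun i hi => ?_⟩
  show (if h : i < 275 then _ else _) = _
  rw [dif_pos hi, hg, σ_spec, ← List.getD_eq_getElem _ 0 hk]
  exact Nat.eq_of_beq_eq_true (of_allN (of_allN ck k hk7) i hi)

end McL

/-- **The row of `McL`.** -/
theorem row_McL (K : Type*) [Group K] (h : Spor.IsoMcL K) : Row K := by
  obtain ⟨e⟩ := h
  obtain ⟨f⟩ := McLType.X275.isoMcL_G1
  have : Finite McLType.X275.G1 := Nat.finite_of_card_ne_zero (by rw [McLType.X275.card_G1]; norm_num)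
  have := McLType.X275.isMcL_G1.1
  refine Row.of_equiv (e.trans f.symm) (McL.row McL.hyp (not_comm_of_card ?_) ?_)
  · rw [McLType.X275.card_G1]
    norm_num
  · exact ((card_out_congr f).trans S2073.result).le

end Cfsg.Agent.SB.SporF
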