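import Cfsg.Agent.SB.SporF.HS.Main
import Cfsg.Agent.SB.SporF.RowMcL
import Cfsg.Agent.HN.AutHS
import Cfsg.Agent.S2072

/-!
# S5765, the row of `HS` (helper61)

The action on 100 points; `row_HS`.
-/

set_option autoImplicit false
set_option maxRecDepth 100000

namespace Cfsg.Agent.SB.SporF

open Cfsg Cfsg.Agent.SB.Spor

namespace HS

open Cfsg.Agent.HN.HS100

theorem ck : allN 3 (fun k => allN 100 fun i => Nat.beq
    (SporadicA.PermTab.lk ([tX, tY, tW].getD k 0) i) (lk (E0.getD k 0) i)) = true := by decide +kernel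

theorem hyp : Hyp (permPM Q.subtype) := by
  refine ⟨fun t ht => ?_, HN.AutBound.card_Q.le⟩
  obtain ⟨k, hk, rfl⟩ := List.mem_iff_getElem.1 ht
  have hk3 : k < 3 := hk
  have h : SporadicA.PermTab.InG Q ([tX, tY, tW].getD k 0) := by
    interval_cases k
    exacts [inX, inY, inW]
  obtain ⟨g, hg, e⟩ := h
  refine ⟨⟨g, hg⟩, fun i hi => ?_⟩
  show (if h : i < 100 then _ else _) = _
  rw [dif_pos hi, ← List.getD_eq_getElem _ 0 hk]
  exact (e ⟨i, hi⟩).trans (Nat.eq_of_beq_eq_true (of_allN (of_allN ck k hk3) i hi))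

end HS

/-- **The row of `HS`.** -/
theorem row_HS (K : Type*) [Group K] (h : Spor.IsoHS K) : Row K := by
  obtain ⟨e⟩ := h
  obtain ⟨⟨f⟩, _⟩ := HN.AutHS.nonempty_Q
  refine Row.of_equiv (e.trans f.symm) (HS.row HS.hyp (not_comm_of_card ?_) ?_)
  · rw [HN.AutBound.card_Q]
    norm_num
  · exact ((card_out_congr f).trans S2072.result).le

end Cfsg.Agent.SB.SporF
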