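import Cfsg.Agent.SB.SporF.J2.Main
import Cfsg.Agent.SB.SporF.RowMcL
import Cfsg.Agent.J2.HundredGens
import Cfsg.Agent.S1619
import Cfsg.Agent.S2066

/-!
# S5765, the row of `J₂` (helper61)

The action on 100 points; `row_J2`.
-/

set_option autoImplicit false
set_option maxRecDepth 100000

namespace Cfsg.Agent.SB.SporF

open Cfsg Cfsg.Agent.SB.Spor

namespace J2

open Cfsg.Agent.SporadicA.J2Hundred Cfsg.Agent.J2.HundredGens

theorem ck : allN 5 (fun k => allN 100 fun i => Nat.beq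
    (SporadicA.PermTab.lk (J2.HundredGens.tab k) i) (lk (E0.getD k 0) i)) = true := by decide +kernel

theorem hyp : Hyp (permPM SporadicA.J2Hundred.G.subtype) := by
  refine ⟨fun t ht => ?_, card_G.le⟩
  obtain ⟨k, hk, rfl⟩ := List.mem_iff_getElem.1 ht
  have hk5 : k < 5 := hk
  refine ⟨⟨gen k, gen_mem k⟩, fun i hi => ?_⟩
  show (if h : i < 100 then _ else _) = _
  rw [dif_pos hi, ← List.getD_eq_getElem _ 0 hk]
  exact (gen_val k ⟨i, hi⟩).trans (Nat.eq_of_beq_eq_true (of_allN (of_allN ck k hk5) i hi))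

end J2

/-- **The row of `J₂`.** -/
theorem row_J2 (K : Type*) [Group K] (h : Spor.IsoJ2 K) : Row K := by
  obtain ⟨e⟩ := h
  obtain ⟨f⟩ := Cfsg.Agent.J2.HundredGens.J2_iso S1619.result.2.2.2
  have := SporadicA.J2Hundred.simple
  refine Row.of_equiv (e.trans f) (J2.row J2.hyp (not_comm_of_card ?_) ?_)
  · rw [SporadicA.J2Hundred.card_G]
    norm_num
  · exact ((card_out_congr f.symm).trans S2066.result).le

end Cfsg.Agent.SB.SporF
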